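import Cfsg.Agent.Omega.NO3S.OneLine.LevAbs
import Cfsg.Agent.Omega.OM.Lev.Uni

/-!
# Natural blocks in coordinates, and the level data (the instance of `LnQ` / `NegQ`)

* `Rt V e b A` : `A` acts on the `b`-component as the full root group `(x, y) ↦ (x + k y, y)`;
* `Blo F S M V N l C e` : `V = ∏ N b` elementary abelian, `M` permutes the `N b`, `e b v ∈ F²` the coordinates of the
  `b`-component of `v`, `l b` the line `{y = 0}` of `N b`, `C b` the product of the other blocks; `S ≤ M` acts on the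
  components by `(x, y) ↦ (x^s + k y^s, y^s)`; `w` : `(x, y) ↦ (y, x)` is induced by `M`; `off` : the best offenders in
  `S`;
* `LvN S B X L J AA` : the level data: `AA` a family of best offenders of `S` on `X ≥ V`, every block is moved.
-/

set_option autoImplicit false
set_option linter.unusedSectionVars false

namespace Cfsg.Agent.Omega.OM.SwapV.Q.Nt

open Subgroup Cfsg Cfsg.Agent.ZN Cfsg.Agent.ZN.ChoiceBase
open Cfsg.Agent.Omega.FFThm (ElemM)
open Cfsg.Agent.Omega.NO3S.OneLine (BFam)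
open Cfsg.Agent.Omega.OM.Lev.Uni (Best)

universe u

variable {G : Type u} [Group G]

/-- `a` acts on the `b`-component as `(x, y) ↦ (x + k y, y)` -/
def Up {ι : Type} {F : Type} [Field F] (V : Subgroup G) (e : ι → G → F × F) (b : ι) (a : G) (k : F) : Prop :=
  ∀ v ∈ V, e b (a * v * a⁻¹) = ((e b v).1 + k * (e b v).2, (e b v).2)

/-- `A` acts on the `b`-component as the full root group. -/
structure Rt {ι : Type} {F : Type} [Field F] (V : Subgroup G) (e : ι → G → F × F) (b : ι) (A : Subgroup G) : Prop where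
  up : ∀ a ∈ A, ∃ k, Up V e b a k
  full : ∀ k, ∃ a ∈ A, Up V e b a k

/-- **Natural blocks in coordinates.** -/
structure Blo {ι : Type} (F : Type) [Field F] (S M V : Subgroup G) (N l C : ι → Subgroup G) (e : ι → G → F × F) :
    Prop where
  SM : S ≤ M
  MV : ∀ g ∈ M, ∀ v ∈ V, g * v * g⁻¹ ∈ V
  com : ∀ x ∈ V, ∀ y ∈ V, x * y = y * x
  sq : ∀ x ∈ V, x * x = 1
  mul : ∀ b, ∀ v ∈ V, ∀ w ∈ V, e b (v * w) = e b v + e b w
  inj : ∀ v ∈ V, (∀ b, e b v = 0) → v = 1
  surj : ∀ f : ι → F × F, ∃ v ∈ V, ∀ b, e b v = f b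
  memN : ∀ b v, v ∈ N b ↔ v ∈ V ∧ ∀ c, c ≠ b → e c v = 0
  meml : ∀ b v, v ∈ l b ↔ v ∈ N b ∧ (e b v).2 = 0
  memC : ∀ b v, v ∈ C b ↔ v ∈ V ∧ e b v = 0
  perm : ∀ g ∈ M, ∀ b, ∃ c, cj g (N b) = N c ∧ cj g (C b) = C c
  lperm : ∀ t ∈ S, ∀ b, ∃ c, cj t (N b) = N c ∧ cj t (l b) = l c
  act : ∀ t ∈ S, ∀ b, cj t (l b) = l b → ∃ (s : F ≃+* F) (k : F), ∀ v ∈ V,
    e b (t * v * t⁻¹) = (s (e b v).1 + k * s (e b v).2, s (e b v).2)
  w : ∀ b, ∃ g ∈ M, cj g (N b) = N b ∧ ∀ v ∈ V, e b (g * v * g⁻¹) = ((e b v).2, (e b v).1)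
  off : ∀ A : Subgroup G, A ≤ S → ElemM V A → (∀ Y ≤ V, Nat.card ↥(A ⊓ centralizer (Y : Set G)) * Nat.card Y ≤
    Nat.card A * Nat.card ↥(Y ⊓ centralizer (A : Set G))) → ∀ b, A ≤ centralizer (N b : Set G) ∨ Rt V e b A

namespace Blo

variable {ι : Type} {F : Type} [Field F] {S M V : Subgroup G} {N l C : ι → Subgroup G} {e : ι → G → F × F}
variable (h : Blo F S M V N l C e)
include h

theorem NV (b : ι) : N b ≤ V := fun v hv => ((h.memN b v).1 hv).1

theorem lN (b : ι) : l b ≤ N b := fun v hv => ((h.meml b v).1 hv).1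

theorem lV (b : ι) : l b ≤ V := (h.lN b).trans (h.NV b)

theorem CV (b : ι) : C b ≤ V := fun v hv => ((h.memC b v).1 hv).1

theorem e_one (b : ι) : e b 1 = 0 := by
  have h1 := h.mul b 1 (one_mem V) 1 (one_mem V)
  rw [one_mul] at h1
  exact left_eq_add.1 h1

theorem inv_eq {v : G} (hv : v ∈ V) : v⁻¹ = v := inv_eq_of_mul_eq_one_right (h.sq v hv)

theorem ext {v w : G} (hv : v ∈ V) (hw : w ∈ V) (hvw : ∀ b, e b v = e b w) : v = w := by
  have h1 : ∀ b, e b w + e b w = 0 := fun b => by rw [← h.mul b w hw w hw, h.sq w hw, h.e_one]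
  have h2 := h.inj (v * w) (mul_mem hv hw) fun b => by rw [h.mul b v hv w hw, hvw b, h1]
  rw [mul_eq_one_iff_eq_inv, h.inv_eq hw] at h2
  exact h2

theorem add_self (b : ι) {w : G} (hw : w ∈ V) : e b w + e b w = 0 := by
  rw [← h.mul b w hw w hw, h.sq w hw, h.e_one]

/-- the characteristic is 2 (if there is a block) -/
theorem char_two (b : ι) (x : F) : x + x = 0 := by
  obtain ⟨v, hv, hve⟩ := h.surj fun _ => (x, 0)
  have h1 := h.add_self b hv
  rw [hve] at h1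
  exact congrArg Prod.fst h1

/-- the component -/
theorem exists_comp [DecidableEq ι] (b : ι) (x : F × F) : ∃ n ∈ N b, e b n = x := by
  obtain ⟨v, hv, hve⟩ := h.surj fun c => if c = b then x else 0
  refine ⟨v, (h.memN b v).2 ⟨hv, fun c hc => by rw [hve, if_neg hc]⟩, by rw [hve, if_pos rfl]⟩

theorem split (b : ι) {v : G} (hv : v ∈ V) : ∃ n ∈ N b, ∃ c ∈ C b, v = n * c ∧ e b n = e b v := by
  classical
  obtain ⟨n, hn, hne⟩ := h.exists_comp b (e b v)
  have hnV := h.NV b hn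
  refine ⟨n, hn, n * v, (h.memC b _).2 ⟨mul_mem hnV hv, ?_⟩, ?_, hne⟩
  · rw [h.mul b n hnV v hv, hne, h.add_self b hv]
  · rw [← mul_assoc, h.sq n hnV, one_mul]

theorem N_le_C {b c : ι} (hbc : b ≠ c) : N b ≤ C c := fun v hv =>
  (h.memC c v).2 ⟨h.NV b hv, ((h.memN b v).1 hv).2 c hbc.symm⟩

theorem N_inf_C (b : ι) : N b ⊓ C b = ⊥ := by
  rw [eq_bot_iff]
  rintro v ⟨h1, h2⟩
  refine mem_bot.2 (h.inj v (h.NV b h1) fun c => ?_)
  by_cases hc : c = b
  · rw [hc]; exact ((h.memC b v).1 h2).2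
  · exact ((h.memN b v).1 h1).2 c hc

theorem N_inj {b c : ι} (hbc : N b = N c) : b = c := by
  classical
  by_contra hne
  obtain ⟨n, hn, hne'⟩ := h.exists_comp b (1, 0)
  have h1 := ((h.memN c n).1 (hbc ▸ hn)).2 b hne
  rw [hne'] at h1
  exact one_ne_zero (congrArg Prod.fst h1)

theorem l_inj {b c : ι} (hbc : l b = l c) : b = c := by
  classical
  by_contra hne
  obtain ⟨n, hn, hne'⟩ := h.exists_comp b (1, 0)
  have h0 : n ∈ l b := (h.meml b n).2 ⟨hn, by rw [hne']⟩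
  have h1 := ((h.memN c n).1 (h.lN c (hbc ▸ h0))).2 b hne
  rw [hne'] at h1
  exact one_ne_zero (congrArg Prod.fst h1)

/-- `g` maps `N b` to `N c`, hence `C b` to `C c` -/
theorem perm_C {g : G} (hg : g ∈ M) {b c : ι} (hbc : cj g (N b) = N c) : cj g (C b) = C c := by
  obtain ⟨d, h1, h2⟩ := h.perm g hg b
  rwa [h.N_inj (h1.symm.trans hbc)] at h2

/-- conjugates by an element which maps `N b` to `N c` -/
theorem e_conj_zero {g : G} (hg : g ∈ M) {b c : ι} (hbc : cj g (N b) = N c) {v : G} (hv : v ∈ V)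
    (h0 : e b v = 0) : e c (g * v * g⁻¹) = 0 := by
  have h1 : g * v * g⁻¹ ∈ cj g (C b) := ⟨v, (h.memC b v).2 ⟨hv, h0⟩, rfl⟩
  rw [h.perm_C hg hbc] at h1
  exact ((h.memC c _).1 h1).2

/-- `e c (g v g⁻¹)` depends only on `e b v` -/
theorem e_conj_congr {g : G} (hg : g ∈ M) {b c : ι} (hbc : cj g (N b) = N c) {v w : G} (hv : v ∈ V) (hw : w ∈ V)
    (h0 : e b v = e b w) : e c (g * v * g⁻¹) = e c (g * w * g⁻¹) := by
  have h1 : e b (v * w) = 0 := by rw [h.mul b v hv w hw, h0, h.add_self b hw]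
  have h2 := h.e_conj_zero hg hbc (mul_mem hv hw) h1
  have e1 : g * (v * w) * g⁻¹ = (g * v * g⁻¹) * (g * w * g⁻¹) := by group
  rw [e1, h.mul c _ (h.MV g hg v hv) _ (h.MV g hg w hw)] at h2
  have h3 := h.add_self c (h.MV g hg w hw)
  calc e c (g * v * g⁻¹) = e c (g * v * g⁻¹) + (e c (g * w * g⁻¹) + e c (g * w * g⁻¹)) := by rw [h3, add_zero]
    _ = (e c (g * v * g⁻¹) + e c (g * w * g⁻¹)) + e c (g * w * g⁻¹) := (add_assoc _ _ _).symm
    _ = _ := by rw [h2, zero_add]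

/-- `g ∈ M` centralises `N b` iff it acts trivially on the `b`-component -/
theorem cent_iff {g : G} (hg : g ∈ M) {b : ι} : g ∈ centralizer (N b : Set G) ↔ ∀ v ∈ V, e b (g * v * g⁻¹) = e b v := by
  constructor
  · intro hc v hv
    have hN : cj g (N b) = N b := cj_eq_of_mem_normalizer (centralizer_le_normalizer _ hc)
    obtain ⟨n, hn, w, hw, -, hne⟩ := h.split b hv
    rw [← h.e_conj_congr hg hN (h.NV b hn) hv hne]
    have e1 : g * n * g⁻¹ = n := by
      rw [← mem_centralizer_iff.1 hc n hn]; group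
    rw [e1, hne]
  · intro hc
    -- `g` normalises `N b`
    classical
    obtain ⟨c, h1, h2⟩ := h.perm g hg b
    have hcb : c = b := by
      by_contra hne
      obtain ⟨n, hn, hne'⟩ := h.exists_comp b (1, 0)
      have h3 : g * n * g⁻¹ ∈ N c := by rw [← h1]; exact ⟨n, hn, rfl⟩
      have h4 := hc n (h.NV b hn)
      rw [((h.memN c _).1 h3).2 b (Ne.symm hne), hne'] at h4
      exact one_ne_zero (congrArg Prod.fst h4).symm
    rw [hcb] at h1
    refine mem_centralizer_iff.2 fun v hv => ?_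
    have h3 : g * v * g⁻¹ ∈ N b := by rw [← h1]; exact ⟨v, hv, rfl⟩
    have h4 : g * v * g⁻¹ = v := h.ext (h.NV b h3) (h.NV b hv) fun d => by
      by_cases hd : d = b
      · rw [hd]; exact hc v (h.NV b hv)
      · rw [((h.memN b _).1 h3).2 d hd, ((h.memN b v).1 hv).2 d hd]
    exact (mul_inv_eq_iff_eq_mul.1 h4).symm

/-- `g ∈ M` centralises `V` iff it acts trivially on all components -/
theorem cent_V_iff {g : G} (hg : g ∈ M) : g ∈ centralizer (V : Set G) ↔ ∀ b, ∀ v ∈ V, e b (g * v * g⁻¹) = e b v := by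
  constructor
  · intro hc b v hv
    have e1 : g * v * g⁻¹ = v := by
      rw [← mem_centralizer_iff.1 hc v hv]; group
    rw [e1]
  · intro hc
    refine mem_centralizer_iff.2 fun v hv => ?_
    exact (mul_inv_eq_iff_eq_mul.1 (h.ext (h.MV g hg v hv) hv fun b => hc b v hv)).symm

end Blo

/-- **The level data.** -/
structure LvN {ι : Type} {F : Type} [Field F] (S : Sylow 2 G) (M V : Subgroup G) (N l C : ι → Subgroup G)
    (e : ι → G → F × F) (X L J : Subgroup G) (AA : Set (Subgroup G)) : Prop extends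
    Blo F (S : Subgroup G) M V N l C e where
  ML : M ≤ L
  fam : BFam (S : Subgroup G) X L AA
  elX : IsElementaryAbelian 2 X
  VX : V ≤ X
  VS : V ≤ (S : Subgroup G)
  MX : ∀ g ∈ M, ∀ x ∈ X, g * x * g⁻¹ ∈ X
  MQ : ∀ g ∈ M, ∀ x ∈ (S : Subgroup G) ⊓ centralizer (V : Set G), g * x * g⁻¹ ∈ (S : Subgroup G)
  AJ : ∀ A ∈ AA, A ≤ J
  JS : J ≤ (S : Subgroup G)
  Jg : J ≤ sSup AA ⊔ ((S : Subgroup G) ⊓ centralizer (V : Set G))
  mv : ∀ b, ∃ A ∈ AA, ¬ A ≤ centralizer (N b : Set G)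

end Cfsg.Agent.Omega.OM.SwapV.Q.Nt
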